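import Cfsg.Agent.S0918
import Cfsg.Agent.S0919
import Cfsg.Agent.Blocks.CliffordCentral
import Cfsg.Agent.H652.PairBasic
import Cfsg.Agent.Blocks.Over
import Cfsg.Agent.Blocks.DefectCard
import Cfsg.Agent.FastGrp
import Cfsg.Agent.Prune
set_option linter.all false
prune_inst 0x7f00000000000000000000000000000000000000000000000000000000000000000000000000000000000000000000000000000000000000000000000000000000000000000000000000000000000000003fffffffffffffffffffffffffffbeffbdfbfeffff
open scoped Cfsg.Agent.FastGrp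

/-!
# Class functions which are not nilpotent modulo `p`

For a class function `F` on `G` (usually the characteristic function of a class) let
`om F χ = (∑ F g χ g) / χ 1` be the scalar by which `∑ F g g` acts in a representation with character `χ`.
`NN M F` says that for some irreducible `χ` this scalar is not in the local ideal at `M`.

* `NN.brauer`   : `NN` passes from `C_G(P)` (`P` an abelian `p`-subgroup) up to `G`;
* `NN.normal`   : from a normal subgroup up to `G`;
* `NN.quot`     : from a quotient up to `G`;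
* `NN.of_value`, `NN.of_not_dvd`, `NN.of_count` : how to start;
* `NN.exists_dvd` : if `NN` holds for the class of `x`, then some `χ` has degree divisible by the
  `p`-part of `|G : C_G(x)|`, and is outside the principal block if `p` divides this index.
-/

set_option autoImplicit false

open Cfsg
open scoped ComplexConjugate

namespace Cfsg.Agent.H652.Four

open Cfsg.Agent.Blocks.LocalRing
open Cfsg.Agent.Blocks

variable {G : Type*} [Group G] {p : ℕ} {M : Ideal AlgInt}

/-- the scalar by which `∑ F g g` acts -/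
noncomputable def om (F χ : G → ℂ) : ℂ := (∑ᶠ g, F g * χ g) / χ 1

/-- `∑ F g g` is not nilpotent modulo `M` -/
def NN (M : Ideal AlgInt) (F : G → ℂ) : Prop :=
  ∃ χ : IrrCharacter G, ¬ MemLocalIdeal M (om F (χ : G → ℂ))

/-- characteristic function of the class of `x` -/
noncomputable def cl (x : G) : G → ℂ := CliffordCentral.classInd x

theorem cl_pos {x y : G} (h : IsConj x y) : cl x y = 1 := CliffordCentral.classInd_pos h

theorem cl_neg {x y : G} (h : ¬ IsConj x y) : cl x y = 0 := CliffordCentral.classInd_neg h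

theorem cl_conj (x y g : G) : cl x (g * y * g⁻¹) = cl x y := CliffordCentral.classInd_conj x y g

theorem om_eq [Fintype G] (F χ : G → ℂ) : om F χ = (∑ g, F g * χ g) / χ 1 := by
  unfold om
  rw [finsum_eq_sum_of_fintype]

theorem om_cl [Finite G] {χ : G → ℂ} (hχ : IsIrrCharacter G χ) (x : G) :
    om (cl x) χ = centralChar χ x := by
  classical
  have := Fintype.ofFinite G
  rw [om_eq, Basic.centralChar_def]
  congr 1
  rw [← CliffordCentral.card_class_eq_index x, Finset.card_eq_sum_ones, Nat.cast_sum,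
    Finset.sum_mul, Finset.sum_filter]
  refine Finset.sum_congr rfl fun g _ => ?_
  by_cases h : IsConj x g
  · rw [cl_pos h, if_pos h, Basic.irr_isConj hχ h]
    norm_num
  · rw [cl_neg h, if_neg h, zero_mul]

/-- sum of a class function over the group, class by class -/
theorem sum_eq_sum_classes [Fintype G] [Fintype (ConjClasses G)] (F χ : G → ℂ)
    (hF : ∀ g x : G, F (g * x * g⁻¹) = F x) :
    ∑ g, F g * χ g = ∑ C : ConjClasses G, F (Quotient.out C) * ∑ g, cl (Quotient.out C) g * χ g := by
  classical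
  rw [← Finset.sum_fiberwise (s := Finset.univ) (g := fun g : G => (ConjClasses.mk g : ConjClasses G))]
  refine Finset.sum_congr rfl fun C _ => ?_
  rw [Finset.mul_sum, Finset.sum_filter]
  refine Finset.sum_congr rfl fun g _ => ?_
  have hiff : ConjClasses.mk g = C ↔ IsConj (Quotient.out C) g := by
    rw [← ConjClasses.mk_eq_mk_iff_isConj]
    have : (ConjClasses.mk (Quotient.out C) : ConjClasses G) = C := Quotient.out_eq C
    rw [this]
    exact eq_comm
  by_cases h : ConjClasses.mk g = C
  · rw [if_pos h, cl_pos (hiff.1 h), one_mul]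
    obtain ⟨c, hc⟩ := isConj_iff.1 (hiff.1 h)
    rw [← hc, hF]
  · rw [if_neg h, cl_neg (fun h' => h (hiff.2 h')), zero_mul, mul_zero]

theorem om_eq_sum_classes [Finite G] [Fintype (ConjClasses G)] {F χ : G → ℂ}
    (hχ : IsIrrCharacter G χ) (hF : ∀ g x : G, F (g * x * g⁻¹) = F x) :
    om F χ = ∑ C : ConjClasses G, F (Quotient.out C) * centralChar χ (Quotient.out C) := by
  have := Fintype.ofFinite G
  rw [om_eq, sum_eq_sum_classes F χ hF, Finset.sum_div]
  refine Finset.sum_congr rfl fun C _ => ?_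
  rw [← om_cl hχ, om_eq, mul_div_assoc]

/-- Every irreducible character `ξ` of `P C(P) ≤ H ≤ N(P)` has a companion in `G`. -/
theorem exists_companion [Finite G] (hM : IsPModular p M) {P H : Subgroup G} (hP : IsPGroup p P)
    (hPH : P ≤ H) (hCH : Subgroup.centralizer (P : Set G) ≤ H)
    (hHN : H ≤ Subgroup.normalizer (P : Set G)) (ξ : IrrCharacter H) :
    ∃ χ : IrrCharacter G, ∀ x : G,
      MemLocalIdeal M (brauerCentralChar P H (ξ : H → ℂ) x - centralChar (χ : G → ℂ) x) := by
  have : Fact p.Prime := ⟨prime hM⟩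
  have : M.IsPrime := isPrime hM
  have hb : IsPBlock M (blockOf M (ξ : H → ℂ)) := Basic.isPBlock_blockOf ξ
  obtain ⟨B, hB⟩ := Cfsg.Agent.S0919.result p M hM P H hP hPH hCH hHN _ hb
  have h := (Cfsg.Agent.S0918.result p M hM P H hP hPH hCH hHN _ hb B hB.2.1).1 hB
  obtain ⟨χ, hχ⟩ := Basic.isPBlock_nonempty hB.2.1
  exact ⟨χ, h ξ (Basic.mem_blockOf_self ξ) χ hχ⟩

/-- **`NN` from a `p`-local subgroup.** -/
theorem NN.brauer' [Finite G] (hM : IsPModular p M) {P H : Subgroup G} (hP : IsPGroup p P)
    (hPH : P ≤ H) (hCH : Subgroup.centralizer (P : Set G) ≤ H)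
    (hHN : H ≤ Subgroup.normalizer (P : Set G)) {x : G} {ξ : IrrCharacter H}
    (h : ¬ MemLocalIdeal M (brauerCentralChar P H (ξ : H → ℂ) x)) : NN M (cl x) := by
  obtain ⟨χ, hχ⟩ := exists_companion hM hP hPH hCH hHN ξ
  refine ⟨χ, fun h' => h ?_⟩
  rw [om_cl χ.2] at h'
  have := memLocalIdeal_add hM (hχ x) h'
  simpa using this

/-- the central character at the part of `F` centralising `P`, for `H = C_G(P)` -/
theorem NN.brauer [Finite G] (hM : IsPModular p M) {P : Subgroup G} (hP : IsPGroup p P)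
    (hPC : P ≤ Subgroup.centralizer (P : Set G)) {F : G → ℂ}
    (hF : ∀ g x : G, F (g * x * g⁻¹) = F x) (hFR : ∀ g, MemLocalRing M (F g))
    (h : NN M (fun h : Subgroup.centralizer (P : Set G) => F (h : G))) : NN M F := by
  classical
  obtain ⟨ξ, hξ⟩ := h
  obtain ⟨χ, hχ⟩ := exists_companion hM hP hPC le_rfl (Subgroup.centralizer_le_normalizer _) ξ
  refine ⟨χ, fun h' => hξ ?_⟩
  have := Fintype.ofFinite G
  have := Fintype.ofFinite (ConjClasses G)
  have := Fintype.ofFinite (Subgroup.centralizer (P : Set G))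
  have key : om (fun h : Subgroup.centralizer (P : Set G) => F (h : G)) (ξ : Subgroup.centralizer (P : Set G) → ℂ) =
      ∑ C : ConjClasses G, F (Quotient.out C) *
        brauerCentralChar P (Subgroup.centralizer (P : Set G)) (ξ : Subgroup.centralizer (P : Set G) → ℂ) (Quotient.out C) := by
    have hb : ∀ x : G, brauerCentralChar P (Subgroup.centralizer (P : Set G)) (ξ : Subgroup.centralizer (P : Set G) → ℂ) x =
        (∑ h : Subgroup.centralizer (P : Set G), cl x (h : G) * (ξ : Subgroup.centralizer (P : Set G) → ℂ) h) / (ξ : Subgroup.centralizer (P : Set G) → ℂ) 1 := by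
      intro x
      refine Eq.trans ?_ (CliffordCentral.inducedCentralChar_eq_sum
        (Subgroup.centralizer (P : Set G)) (ξ : Subgroup.centralizer (P : Set G) → ℂ) x)
      rw [Basic.brauerCentralChar_def, Basic.inducedCentralChar_def]
      have : {h : Subgroup.centralizer (P : Set G) | IsConj x (h : G) ∧
          (h : G) ∈ Subgroup.centralizer (P : Set G)} =
          {h : Subgroup.centralizer (P : Set G) | IsConj x (h : G)} := by
        ext h
        simp only [Set.mem_ofPred_eq, h.2, and_true]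
      rw [this]
    rw [om_eq]
    simp_rw [hb]
    have e : ∀ C : ConjClasses G, F (Quotient.out C) *
        ((∑ h : Subgroup.centralizer (P : Set G), cl (Quotient.out C) (h : G) * (ξ : Subgroup.centralizer (P : Set G) → ℂ) h) /
          (ξ : Subgroup.centralizer (P : Set G) → ℂ) 1) =
        (∑ h : Subgroup.centralizer (P : Set G),
          F (Quotient.out C) * (cl (Quotient.out C) (h : G) * (ξ : Subgroup.centralizer (P : Set G) → ℂ) h)) / (ξ : Subgroup.centralizer (P : Set G) → ℂ) 1 := by
      intro C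
      rw [← Finset.mul_sum, mul_div_assoc]
    rw [Finset.sum_congr rfl fun C _ => e C, ← Finset.sum_div, Finset.sum_comm]
    congr 1
    refine Finset.sum_congr rfl fun h _ => ?_
    rw [Finset.sum_eq_single (ConjClasses.mk (h : G))]
    · have hc : IsConj (Quotient.out (ConjClasses.mk (h : G))) (h : G) := by
        rw [← ConjClasses.mk_eq_mk_iff_isConj]
        exact Quotient.out_eq (ConjClasses.mk (h : G))
      rw [cl_pos hc, one_mul]
      obtain ⟨c, hc⟩ := isConj_iff.1 hc
      congr 1
      conv_lhs => rw [← hc]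
      exact hF _ _
    · intro C _ hC
      rw [cl_neg, zero_mul, mul_zero]
      intro hc
      apply hC
      rw [← ConjClasses.mk_eq_mk_iff_isConj] at hc
      rw [← hc]
      exact (Quotient.out_eq C).symm
    · intro h'
      exact absurd (Finset.mem_univ _) h'
  rw [key]
  rw [om_eq_sum_classes χ.2 hF] at h'
  have h2 : MemLocalIdeal M (∑ C : ConjClasses G, F (Quotient.out C) *
      (brauerCentralChar P (Subgroup.centralizer (P : Set G)) (ξ : Subgroup.centralizer (P : Set G) → ℂ) (Quotient.out C) -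
        centralChar (χ : G → ℂ) (Quotient.out C))) :=
    memLocalIdeal_sum hM _ _ fun C _ => memLocalIdeal_mul_left hM (hFR _) (hχ _)
  have h3 := memLocalIdeal_add hM h2 h'
  rw [← Finset.sum_add_distrib] at h3
  refine (congrArg _ (Finset.sum_congr rfl fun C _ => ?_)).mp h3
  ring

/-- **`NN` from a normal subgroup.** -/
theorem NN.normal [Finite G] {N : Subgroup G} [hN : N.Normal] {F : G → ℂ}
    (hF : ∀ g x : G, F (g * x * g⁻¹) = F x) (hsupp : ∀ g, g ∉ N → F g = 0)
    (h : NN M (fun n : N => F (n : G))) : NN M F := by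
  classical
  have := Fintype.ofFinite G
  have := Fintype.ofFinite N
  obtain ⟨θ, hθ⟩ := h
  obtain ⟨χ, hχ⟩ := Over.exists_over N θ
  refine ⟨χ, ?_⟩
  have e := Over.sum_mul_eq_of_over N χ.2 θ.2 hχ (fun n : N => F (n : G)) (fun g n => by
    rw [MulAut.conjNormal_apply]
    exact hF g n)
  have e2 : ∑ g : G, F g * (χ : G → ℂ) g = ∑ n : N, F (n : G) * (χ : G → ℂ) n := by
    rw [← Finset.sum_filter_add_sum_filter_not Finset.univ (fun g => g ∈ N)]
    rw [Finset.sum_eq_zero (s := Finset.univ.filter (fun g => ¬ g ∈ N)), add_zero]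
    · rw [Finset.sum_subtype (p := fun g => g ∈ N) _ (by simp)]
    · intro g hg
      rw [hsupp g (Finset.mem_filter.1 hg).2, zero_mul]
  rw [om_eq, e2, e, ← om_eq]
  exact hθ

/-- **`NN` from a quotient.** -/
theorem NN.quot {Q : Type*} [Group Q] [Fintype G] [Fintype Q] [DecidableEq Q] {φ : G →* Q}
    (hφ : Function.Surjective φ) {F : G → ℂ} {F' : Q → ℂ}
    (hFF : ∀ q, ∑ g ∈ Finset.univ.filter (fun g => φ g = q), F g = F' q)
    (h : NN M F') : NN M F := by
  obtain ⟨χ, hχ⟩ := h
  refine ⟨⟨fun g => (χ : Q → ℂ) (φ g), CliffordCentral.isIrrCharacter_comp χ.2 φ hφ⟩, ?_⟩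
  have e : om F (fun g => (χ : Q → ℂ) (φ g)) = om F' (χ : Q → ℂ) := by
    rw [om_eq, om_eq]
    congr 1
    · rw [← Finset.sum_fiberwise (s := Finset.univ) (g := fun g : G => φ g)]
      refine Finset.sum_congr rfl fun q _ => ?_
      rw [← hFF q, Finset.sum_mul]
      refine Finset.sum_congr rfl fun g hg => ?_
      rw [(Finset.mem_filter.1 hg).2]
    · rw [map_one]
  rw [show om F ((⟨fun g => (χ : Q → ℂ) (φ g), CliffordCentral.isIrrCharacter_comp χ.2 φ hφ⟩ :
    IrrCharacter G) : G → ℂ) = om F' (χ : Q → ℂ) from e]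
  exact hχ

theorem NN.quot_cl [Finite G] {Q : Type*} [Group Q] {φ : G →* Q}
    (hφ : Function.Surjective φ) {x : G} (hx : ∀ g, IsConj x g → φ g = φ x → g = x)
    (h : NN M (cl (φ x))) : NN M (cl x) := by
  classical
  have := Fintype.ofFinite G
  have := Fintype.ofSurjective φ hφ
  refine NN.quot hφ (F' := cl (φ x)) (fun q => ?_) h
  by_cases hq : IsConj (φ x) q
  · rw [cl_pos hq]
    obtain ⟨c, hc⟩ := isConj_iff.1 hq
    obtain ⟨c, rfl⟩ := hφ c
    rw [Finset.sum_eq_single (c * x * c⁻¹)]
    · exact cl_pos (isConj_iff.2 ⟨c, rfl⟩)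
    · intro g hg hne
      refine cl_neg fun hcg => hne ?_
      have h1 : c⁻¹ * g * c = x := by
        apply hx
        · exact hcg.trans (isConj_iff.2 ⟨c⁻¹, by group⟩)
        · rw [map_mul, map_mul, map_inv, (Finset.mem_filter.1 hg).2, ← hc]
          group
      rw [← h1]
      group
    · intro hn
      exfalso
      apply hn
      rw [Finset.mem_filter]
      refine ⟨Finset.mem_univ _, ?_⟩
      rw [map_mul, map_mul, map_inv]
      exact hc
  · rw [cl_neg hq]
    refine Finset.sum_eq_zero fun g hg => cl_neg fun hg' => hq ?_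
    rw [← (Finset.mem_filter.1 hg).2]
    exact φ.map_isConj hg'

/-- the kernel is a central `p`-group and `x` is `p`-regular -/
theorem NN.quot_central [Finite G] {Q : Type*} [Group Q] {φ : G →* Q}
    (hφ : Function.Surjective φ) {x : G} (hker : φ.ker ≤ Subgroup.center G)
    (hp : IsPGroup p φ.ker) (hx : (orderOf x).Coprime p)
    (h : NN M (cl (φ x))) : NN M (cl x) := by
  refine NN.quot_cl hφ (fun g hg hφg => ?_) h
  have hz : x⁻¹ * g ∈ φ.ker := by
    rw [MonoidHom.mem_ker, map_mul, map_inv, hφg, inv_mul_cancel]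
  obtain ⟨z, hz', rfl⟩ : ∃ z ∈ φ.ker, g = x * z := ⟨x⁻¹ * g, hz, by group⟩
  have hzc : Commute x z := ((Subgroup.mem_center_iff.1 (hker hz')) x)
  obtain ⟨k, hk⟩ := hp ⟨z, hz'⟩
  have hk' : z ^ p ^ k = 1 := by simpa using congrArg Subtype.val hk
  have ho : orderOf (x * z) = orderOf x := by
    obtain ⟨c, hc⟩ := isConj_iff.1 hg
    rw [← hc]
    exact MulEquiv.orderOf_eq (MulAut.conj c) x
  have h1 : (x * z) ^ orderOf x = 1 := by rw [← ho]; exact pow_orderOf_eq_one _
  rw [hzc.mul_pow, pow_orderOf_eq_one, one_mul] at h1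
  have h2 : orderOf z ∣ orderOf x := orderOf_dvd_of_pow_eq_one h1
  have h3 : orderOf z ∣ p ^ k := orderOf_dvd_of_pow_eq_one hk'
  have h4 : orderOf z = 1 := Nat.eq_one_of_dvd_coprimes (hx.pow_right k) h2 h3
  rw [orderOf_eq_one_iff.1 h4, mul_one]

/-- the class of a value of a homomorphism bijective on everything -/
theorem NN.of_equiv [Finite G] {Q : Type*} [Group Q] (e : G ≃* Q) {x : G}
    (h : NN M (cl (e x))) : NN M (cl x) :=
  NN.quot_cl (φ := e.toMonoidHom) e.surjective (fun _ _ hg => e.injective hg) h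

theorem NN.of_value [Finite G] {x : G} (θ : IrrCharacter G)
    (h : ¬ MemLocalIdeal M (centralChar (θ : G → ℂ) x)) : NN M (cl x) :=
  ⟨θ, by rwa [om_cl θ.2]⟩

theorem NN.of_int [Finite G] (hM : IsPModular p M) {x : G} (θ : IrrCharacter G) {n : ℤ}
    (hn : centralChar (θ : G → ℂ) x = n) (hpn : ¬ (p : ℤ) ∣ n) : NN M (cl x) :=
  NN.of_value θ (by rw [hn, memLocalIdeal_intCast_iff hM]; exact hpn)

/-- **The conclusion**: divisibility of a degree. -/
theorem dvd_charDegree [Finite G] (hM : IsPModular p M) {x : G} {χ : IrrCharacter G}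
    (h : ¬ MemLocalIdeal M (centralChar (χ : G → ℂ) x)) {k : ℕ}
    (hk : p ^ k ∣ (Subgroup.centralizer ({x} : Set G)).index) :
    p ^ k ∣ charDegree (χ : G → ℂ) := by
  have hp := prime hM
  by_contra hcon
  have hd0 : charDegree (χ : G → ℂ) ≠ 0 := (Basic.charDegree_pos χ.2).ne'
  obtain ⟨j, m, hm, hjm⟩ := Nat.exists_eq_pow_mul_and_not_dvd hd0 p hp.ne_one
  have hj : j < k := by
    by_contra hj
    apply hcon
    rw [hjm]
    exact Dvd.dvd.mul_right (pow_dvd_pow p (not_lt.1 hj)) m
  obtain ⟨i, hi⟩ := hk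
  apply h
  rw [Basic.centralChar_def, hi, Basic.irr_one_eq_charDegree χ.2, hjm]
  have hm0 : (m : ℂ) ≠ 0 := by
    rintro h0
    exact hm ((Nat.cast_eq_zero.1 h0) ▸ dvd_zero p)
  have hp0 : (p : ℂ) ≠ 0 := by exact_mod_cast hp.ne_zero
  have e : ((p ^ k * i : ℕ) : ℂ) * (χ : G → ℂ) x / ((p ^ j * m : ℕ) : ℂ) =
      ((p : ℂ) * ((p : ℂ) ^ (k - j - 1) * i * (χ : G → ℂ) x)) * (m : ℂ)⁻¹ := by
    have hk' : k = j + 1 + (k - j - 1) := by omega
    push_cast
    rw [div_eq_iff (mul_ne_zero (pow_ne_zero _ hp0) hm0)]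
    conv_lhs => rw [hk']
    rw [pow_add, pow_add, pow_one]
    field_simp
  rw [e]
  have hmu : ¬ MemLocalIdeal M (m : ℂ) := by
    rw [memLocalIdeal_natCast_iff hM]
    exact hm
  refine memLocalIdeal_mul_right hM (memLocalIdeal_mul_right hM (memLocalIdeal_prime hM) ?_)
    (memLocalRing_inv (memLocalRing_natCast hM m) hmu)
  refine memLocalRing_mul hM (memLocalRing_mul hM
    (memLocalRing_pow hM (memLocalRing_natCast hM p) _) (memLocalRing_natCast hM i)) ?_
  exact memLocalRing_of_isIntegral hM (DefectCard.isIntegral_irr χ.2 x)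

theorem NN.exists_dvd [Finite G] (hM : IsPModular p M) {x : G} (h : NN M (cl x)) {k : ℕ}
    (hk : p ^ k ∣ (Subgroup.centralizer ({x} : Set G)).index) :
    ∃ χ : IrrCharacter G, p ^ k ∣ charDegree (χ : G → ℂ) ∧
      ¬ MemLocalIdeal M (centralChar (χ : G → ℂ) x) := by
  obtain ⟨χ, hχ⟩ := h
  rw [om_cl χ.2] at hχ
  exact ⟨χ, dvd_charDegree hM hχ hk, hχ⟩

/-- ... and a character outside the principal block -/
theorem NN.exists_not_sameBlock [Finite G] (hM : IsPModular p M) {x : G} (h : NN M (cl x))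
    (hk : p ∣ (Subgroup.centralizer ({x} : Set G)).index) :
    ∃ χ : IrrCharacter G, ¬ SameBlock M (fun _ : G => (1 : ℂ)) (χ : G → ℂ) := by
  obtain ⟨χ, hχ⟩ := h
  rw [om_cl χ.2] at hχ
  refine ⟨χ, fun hs => hχ ?_⟩
  have h1 : MemLocalIdeal M (centralChar (fun _ : G => (1 : ℂ)) x) := by
    rw [Basic.centralChar_def, div_one, mul_one, memLocalIdeal_natCast_iff hM]
    exact hk
  have := memLocalIdeal_sub hM h1 (hs x)
  simpa using this

end Cfsg.Agent.H652.Four
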