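import Mathlib
import Cfsg.Agent.Characters.Central
import Cfsg.Agent.Characters.Counting
import Cfsg.Agent.Blocks.Basic
import Cfsg.Agent.FastGrp
import Cfsg.Agent.Prune
set_option linter.all false
prune_inst 0x7f00000000000000000000000000000000000000000000000000000000000000000000000000000000000000000000000000000000000000000000000000000000000000000000000000000000000000003ffff7ffffffffffffffffffffffbeffbdefffffff
open scoped Cfsg.Agent.FastGrp

/-!
# The degree of an irreducible character from a spherical function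

* `degree_of_sph` : if `φ` spans the functions of a left-translation-invariant space `E` of functions on `G / K` which
  are left `K`-invariant, then some irreducible degree is a multiple of `|G| / ∑ φ(g) φ(g⁻¹)`;
* `degree_of_collapse` : the same from a collapsed incidence matrix.
-/

set_option autoImplicit false

open Cfsg

namespace Cfsg.Agent.H652.Four.SphDeg

open Cfsg.Agent.Characters.Core Cfsg.Agent.Characters Cfsg.Agent.Characters.Central
open scoped ComplexConjugate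

universe u

section Abs

variable {G : Type u} [Group G] [Fintype G] (K : Subgroup G) [Fintype K]

theorem degree_of_sph (E : Submodule ℂ (G → ℂ)) (hEt : ∀ f ∈ E, ∀ g : G, (fun x => f (g * x)) ∈ E)
    (hEr : ∀ f ∈ E, ∀ x, ∀ k ∈ K, f (x * k) = f x)
    (φ : G → ℂ) (hφ : φ ∈ E) (h1 : φ 1 = 1)
    (hu : ∀ f ∈ E, (∀ k ∈ K, ∀ x, f (k * x) = f x) → ∀ x, f x = f 1 * φ x)
    (hφl : ∀ k ∈ K, ∀ x, φ (k * x) = φ x) :
    ∃ (χ : IrrCharacter G) (d : ℕ),
      (charDegree (χ : G → ℂ) : ℂ) * ∑ g, φ g * φ g⁻¹ = d * (Nat.card G : ℂ) := by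
  classical
  have := finite_irr (G := G)
  let _ := Fintype.ofFinite (IrrCharacter G)
  have hG : (Nat.card G : ℂ) ≠ 0 := card_ne_zero_complex
  have hK : (Fintype.card K : ℂ) ≠ 0 := Nat.cast_ne_zero.2 Fintype.card_ne_zero
  -- the functional equation
  have S : ∀ g x, ∑ k : K, φ (g * k * x) = Fintype.card K * φ g * φ x := by
    intro g x
    have hm : (fun x => ∑ k : K, φ (g * k * x)) ∈ E := by
      have h2 : (fun x => ∑ k : K, φ (g * k * x)) = ∑ k : K, fun x => φ (g * k * x) := by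
        funext x
        rw [Finset.sum_apply]
      rw [h2]
      exact E.sum_mem fun k _ => hEt φ hφ _
    have h3 := hu _ hm ?_ x
    · rw [h3]
      congr 1
      have h4 : ∀ k : K, φ (g * k * 1) = φ g := fun k => by rw [mul_one]; exact hEr φ hφ g k k.2
      show ∑ k : K, φ (g * k * 1) = _
      rw [Finset.sum_congr rfl fun k _ => h4 k, Finset.sum_const, Finset.card_univ, nsmul_eq_mul]
    · intro k' hk' x
      show ∑ k : K, φ (g * k * (k' * x)) = ∑ k : K, φ (g * k * x)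
      rw [← Equiv.sum_comp (Equiv.mulRight (⟨k', hk'⟩ : K)) (fun k : K => φ (g * k * x))]
      refine Finset.sum_congr rfl fun k _ => ?_
      rw [Equiv.coe_mulRight, Subgroup.coe_mul]
      simp only [mul_assoc]
  -- the eigenvalues of the characters
  have C : ∀ (χ : IrrCharacter G) x, ∑ z, (χ : G → ℂ) z * φ (z⁻¹ * x) = (∑ z, (χ : G → ℂ) z * φ z⁻¹) * φ x := by
    intro χ x
    have hm : (fun x => ∑ z, (χ : G → ℂ) z * φ (z⁻¹ * x)) ∈ E := by
      have h2 : (fun x => ∑ z, (χ : G → ℂ) z * φ (z⁻¹ * x)) = ∑ z, (χ : G → ℂ) z • fun x => φ (z⁻¹ * x) := by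
        funext x
        rw [Finset.sum_apply]
        rfl
      rw [h2]
      exact E.sum_mem fun z _ => E.smul_mem _ (hEt φ hφ _)
    have h3 := hu _ hm ?_ x
    · rw [h3]
      simp only [mul_one]
    · intro k hk x
      show ∑ z, (χ : G → ℂ) z * φ (z⁻¹ * (k * x)) = ∑ z, (χ : G → ℂ) z * φ (z⁻¹ * x)
      rw [← Equiv.sum_comp (MulAut.conj k).toEquiv (fun z => (χ : G → ℂ) z * φ (z⁻¹ * (k * x)))]
      refine Finset.sum_congr rfl fun z _ => ?_
      have e1 : (MulAut.conj k).toEquiv z = k * z * k⁻¹ := rfl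
      rw [e1, isIrr_isClassFunction χ.2 z k]
      have e2 : (k * z * k⁻¹)⁻¹ * (k * x) = k * (z⁻¹ * x) := by group
      rw [e2, hφl k hk]
  -- some character does not vanish
  obtain ⟨χ, hχ⟩ : ∃ χ : IrrCharacter G, ∑ z, (χ : G → ℂ) z * φ z⁻¹ ≠ 0 := by
    by_contra hcon
    push Not at hcon
    have h2 : ∑ χ : IrrCharacter G, (χ : G → ℂ) 1 * ∑ z, (χ : G → ℂ) z * φ z⁻¹ = Nat.card G := by
      simp only [Finset.mul_sum]
      rw [Finset.sum_comm]
      have h3 : ∀ z : G, ∑ χ : IrrCharacter G, (χ : G → ℂ) 1 * ((χ : G → ℂ) z * φ z⁻¹) =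
          if z = 1 then (Nat.card G : ℂ) else 0 := by
        intro z
        have h4 : ∀ χ : IrrCharacter G, (χ : G → ℂ) 1 * ((χ : G → ℂ) z * φ z⁻¹) =
            (χ : G → ℂ) 1 * (χ : G → ℂ) z * φ z⁻¹ := fun χ => by ring
        rw [Finset.sum_congr rfl fun χ _ => h4 χ, ← Finset.sum_mul, Counting.sum_irr_one_mul]
        split_ifs with h
        · subst h
          rw [inv_one, h1, mul_one]
        · rw [zero_mul]
      rw [Finset.sum_congr rfl fun z _ => h3 z, Finset.sum_ite_eq', if_pos (Finset.mem_univ _)]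
    rw [Finset.sum_eq_zero fun χ _ => by rw [hcon χ, mul_zero]] at h2
    exact hG h2.symm
  have hχ1 : (χ : G → ℂ) 1 ≠ 0 := isIrr_apply_one_ne_zero χ.2
  set m := ∑ z, (χ : G → ℂ) z * φ z⁻¹ with hmdef
  have hm' : ∑ w, (χ : G → ℂ) w⁻¹ * φ w = m := by
    rw [hmdef, ← Equiv.sum_comp (Equiv.inv G) (fun z => (χ : G → ℂ) z * φ z⁻¹)]
    refine Finset.sum_congr rfl fun w _ => ?_
    rw [Equiv.inv_apply, inv_inv]
  -- the trace formula
  have T : ∀ g, ∑ x, φ (x * g * x⁻¹) = Nat.card G * (χ : G → ℂ) g / (χ : G → ℂ) 1 := by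
    intro g
    have h2 : ∀ y, m * φ y = ∑ w, (χ : G → ℂ) (y * w⁻¹) * φ w := by
      intro y
      rw [← C χ y]
      refine (Fintype.sum_equiv ((Equiv.inv G).trans (Equiv.mulRight y)) _ _ fun z => ?_)
      have e1 : ((Equiv.inv G).trans (Equiv.mulRight y)) z = z⁻¹ * y := rfl
      rw [e1, mul_inv_rev, inv_inv, mul_inv_cancel_left]
    apply mul_left_cancel₀ hχ
    rw [Finset.mul_sum]
    have h3 : ∀ x : G, m * φ (x * g * x⁻¹) = ∑ w, (χ : G → ℂ) (x * g * x⁻¹ * w⁻¹) * φ w := fun x => h2 _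
    rw [Finset.sum_congr rfl fun x _ => h3 x, Finset.sum_comm]
    have h4 : ∀ w : G, ∑ x, (χ : G → ℂ) (x * g * x⁻¹ * w⁻¹) * φ w =
        Nat.card G * (χ : G → ℂ) g / (χ : G → ℂ) 1 * ((χ : G → ℂ) w⁻¹ * φ w) := by
      intro w
      rw [← Finset.sum_mul, sum_char_conj_mul χ.2]
      ring
    rw [Finset.sum_congr rfl fun w _ => h4 w, ← Finset.mul_sum, hm', mul_comm]
  obtain ⟨d, hd⟩ := classInner_isNat (isCharacter_comp K.subtype (isIrr_isCharacter χ.2))
    (isCharacter_one (G := K))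
  rw [classInner_def] at hd
  have hd' : ∑ k : K, (χ : G → ℂ) k = Fintype.card K * d := by
    rw [← hd, Nat.card_eq_fintype_card, mul_inv_cancel_left₀ hK]
    refine Finset.sum_congr rfl fun k _ => ?_
    simp
  refine ⟨χ, d, ?_⟩
  rw [← Blocks.Basic.irr_one_eq_charDegree χ.2]
  have h5 : ∑ k : K, ∑ x, φ (x * k * x⁻¹) = Fintype.card K * ∑ g, φ g * φ g⁻¹ := by
    rw [Finset.sum_comm, Finset.mul_sum]
    refine Finset.sum_congr rfl fun x _ => ?_
    rw [S, mul_assoc]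
  have h6 : ∑ k : K, ∑ x, φ (x * k * x⁻¹) = Nat.card G / (χ : G → ℂ) 1 * (Fintype.card K * d) := by
    rw [← hd', Finset.mul_sum]
    refine Finset.sum_congr rfl fun k _ => ?_
    rw [T]
    ring
  rw [h5] at h6
  apply mul_left_cancel₀ hK
  rw [← mul_assoc, mul_comm (Fintype.card K : ℂ) ((χ : G → ℂ) 1), mul_assoc, h6]
  field_simp

end Abs

section Avg

variable {G : Type u} [Group G] [Fintype G] {I : Type*} [DecidableEq I]

theorem avg (L R : Subgroup G) [Fintype R] (ι : G → I) (ιr : ∀ x, ∀ r ∈ R, ι (x * r) = ι x)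
    (ιs : ∀ x y, ι x = ι y → ∃ l ∈ L, ∃ r ∈ R, y = l * x * r) (ψ : G → ℚ) (hψ : ∀ l ∈ L, ∀ x, ψ (l * x) = ψ x)
    (x : G) : ((Finset.univ.filter fun y => ι y = ι x).card : ℚ) * ∑ r : R, ψ (x * r) =
      Fintype.card R * ∑ y ∈ Finset.univ.filter (fun y => ι y = ι x), ψ y := by
  have hu : ∀ y ∈ Finset.univ.filter (fun y => ι y = ι x), ∑ r : R, ψ (y * r) = ∑ r : R, ψ (x * r) := by
    intro y hy
    obtain ⟨l, hl, r₀, hr₀, rfl⟩ := ιs x y (Finset.mem_filter.1 hy).2.symm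
    rw [← Equiv.sum_comp (Equiv.mulLeft (⟨r₀, hr₀⟩ : R)) (fun r : R => ψ (x * r))]
    refine Finset.sum_congr rfl fun r _ => ?_
    rw [Equiv.coe_mulLeft, Subgroup.coe_mul, mul_assoc, mul_assoc, hψ l hl]
  have h1 : ∑ y ∈ Finset.univ.filter (fun y => ι y = ι x), ∑ r : R, ψ (y * r) =
      ((Finset.univ.filter fun y => ι y = ι x).card : ℚ) * ∑ r : R, ψ (x * r) := by
    rw [Finset.sum_congr rfl hu, Finset.sum_const, nsmul_eq_mul]
  rw [← h1, Finset.sum_comm]
  have h2 : ∀ r : R, ∑ y ∈ Finset.univ.filter (fun y => ι y = ι x), ψ (y * r) =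
      ∑ y ∈ Finset.univ.filter (fun y => ι y = ι x), ψ y := by
    intro r
    rw [Finset.sum_filter, Finset.sum_filter,
      ← Equiv.sum_comp (Equiv.mulRight (r : G)) (fun y : G => if ι y = ι x then ψ y else 0)]
    refine Finset.sum_congr rfl fun y _ => ?_
    rw [Equiv.coe_mulRight, ιr y r r.2]
  rw [Finset.sum_congr rfl fun r _ => h2 r, Finset.sum_const, Finset.card_univ, nsmul_eq_mul]

end Avg

section Main

variable {G : Type u} [Group G] [Finite G] (K C : Subgroup G) {I J : Type} [Fintype I] [Fintype J]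
  [DecidableEq I] [DecidableEq J]

/-- the averaging step and the uniqueness of the eigenfunction, over the rationals -/
theorem collapse_aux [Fintype K] [Fintype C] (κ : G → I) (γ : G → J)
    (κl : ∀ h ∈ K, ∀ x, κ (h * x) = κ x) (κr : ∀ x, ∀ k ∈ K, κ (x * k) = κ x)
    (κs : ∀ x y, κ x = κ y → ∃ h ∈ K, ∃ k ∈ K, y = h * x * k)
    (γl : ∀ h ∈ K, ∀ x, γ (h * x) = γ x) (γr : ∀ x, ∀ c ∈ C, γ (x * c) = γ x)
    (γs : ∀ x y, γ x = γ y → ∃ h ∈ K, ∃ c ∈ C, y = h * x * c)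
    (p : I → J → ℕ) (N : ℕ) (hN : N ≠ 0) (hp : ∀ i j, Nat.card {x : G // κ x = i ∧ γ x = j} = N * p i j)
    (hi : ∀ i, ∃ j, p i j ≠ 0) (hj : ∀ j, ∃ i, p i j ≠ 0)
    (a : I → ℚ) (s : J → ℚ) (t : ℚ)
    (hs : ∀ j, (∑ i, (p i j : ℚ)) * s j = ∑ i, (p i j : ℚ) * a i)
    (ht : ∀ i, (∑ j, (p i j : ℚ)) * (t * a i) = ∑ j, (p i j : ℚ) * s j)
    (huniq : ∀ (a' : I → ℚ) (s' : J → ℚ), (∀ j, (∑ i, (p i j : ℚ)) * s' j = ∑ i, (p i j : ℚ) * a' i) →
      (∀ i, (∑ j, (p i j : ℚ)) * (t * a' i) = ∑ j, (p i j : ℚ) * s' j) → ∀ i, a' i = a' (κ 1) * a i) :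
    (∀ x, (∑ k : K, ∑ c : C, a (κ (x * k * c))) = t * Fintype.card K * Fintype.card C * a (κ x)) ∧
    (∀ φ : G → ℚ, (∀ h ∈ K, ∀ x, φ (h * x) = φ x) → (∀ x, ∀ k ∈ K, φ (x * k) = φ x) →
      (∀ x, ∑ k : K, ∑ c : C, φ (x * k * c) = t * Fintype.card K * Fintype.card C * φ x) →
      ∀ x, φ x = φ 1 * a (κ x)) ∧
    (∀ i, (Nat.card {x : G // κ x = i} : ℚ) = N * ∑ j, (p i j : ℚ)) := by
  classical
  have := Fintype.ofFinite G
  have hN' : (N : ℚ) ≠ 0 := Nat.cast_ne_zero.2 hN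
  have hK0 : (Fintype.card K : ℚ) ≠ 0 := Nat.cast_ne_zero.2 Fintype.card_ne_zero
  have hC0 : (Fintype.card C : ℚ) ≠ 0 := Nat.cast_ne_zero.2 Fintype.card_ne_zero
  have hp' : ∀ i j, ((Finset.univ.filter fun x : G => κ x = i ∧ γ x = j).card : ℚ) = N * p i j := by
    intro i j
    have := hp i j
    rw [Nat.card_eq_fintype_card, Fintype.card_subtype] at this
    rw [this]
    push_cast
    ring
  have κsurj : ∀ i, ∃ x, κ x = i := by
    intro i
    obtain ⟨j, hj⟩ := hi i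
    have h1 : (Finset.univ.filter fun x : G => κ x = i ∧ γ x = j).card ≠ 0 := by
      intro h
      have := hp' i j
      rw [h, Nat.cast_zero] at this
      exact mul_ne_zero hN' (Nat.cast_ne_zero.2 hj) this.symm
    obtain ⟨x, hx⟩ := Finset.card_ne_zero.1 h1
    exact ⟨x, (Finset.mem_filter.1 hx).2.1⟩
  have γsurj : ∀ j, ∃ x, γ x = j := by
    intro j
    obtain ⟨i, hi⟩ := hj j
    have h1 : (Finset.univ.filter fun x : G => κ x = i ∧ γ x = j).card ≠ 0 := by
      intro h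
      have := hp' i j
      rw [h, Nat.cast_zero] at this
      exact mul_ne_zero hN' (Nat.cast_ne_zero.2 hi) this.symm
    obtain ⟨x, hx⟩ := Finset.card_ne_zero.1 h1
    exact ⟨x, (Finset.mem_filter.1 hx).2.2⟩
  -- sums over the fibres
  have sumγ : ∀ (f : I → ℚ) (j : J), ∑ y ∈ Finset.univ.filter (fun y => γ y = j), f (κ y) =
      N * ∑ i, (p i j : ℚ) * f i := by
    intro f j
    rw [← Finset.sum_fiberwise_of_maps_to (s := Finset.univ.filter (fun y => γ y = j)) (t := Finset.univ)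
      (g := κ) (fun _ _ => Finset.mem_univ _), Finset.mul_sum]
    refine Finset.sum_congr rfl fun i _ => ?_
    rw [Finset.filter_filter]
    have h1 : ∀ y ∈ Finset.univ.filter (fun y => γ y = j ∧ κ y = i), f (κ y) = f i := by
      intro y hy
      rw [(Finset.mem_filter.1 hy).2.2]
    rw [Finset.sum_congr rfl h1, Finset.sum_const, nsmul_eq_mul]
    have h2 : Finset.univ.filter (fun y => γ y = j ∧ κ y = i) = Finset.univ.filter (fun y => κ y = i ∧ γ y = j) := by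
      ext y; simp [and_comm]
    rw [h2, hp']
    ring
  have sumκ : ∀ (f : J → ℚ) (i : I), ∑ y ∈ Finset.univ.filter (fun y => κ y = i), f (γ y) =
      N * ∑ j, (p i j : ℚ) * f j := by
    intro f i
    rw [← Finset.sum_fiberwise_of_maps_to (s := Finset.univ.filter (fun y => κ y = i)) (t := Finset.univ)
      (g := γ) (fun _ _ => Finset.mem_univ _), Finset.mul_sum]
    refine Finset.sum_congr rfl fun j _ => ?_
    rw [Finset.filter_filter]
    have h1 : ∀ y ∈ Finset.univ.filter (fun y => κ y = i ∧ γ y = j), f (γ y) = f j := by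
      intro y hy
      rw [(Finset.mem_filter.1 hy).2.2]
    rw [Finset.sum_congr rfl h1, Finset.sum_const, nsmul_eq_mul, hp']
    ring
  have cardγ : ∀ j, ((Finset.univ.filter fun y => γ y = j).card : ℚ) = N * ∑ i, (p i j : ℚ) := by
    intro j
    have h1 := sumγ (fun _ => 1) j
    simp only [mul_one, Finset.sum_const, nsmul_eq_mul] at h1
    exact h1
  have cardκ : ∀ i, ((Finset.univ.filter fun y => κ y = i).card : ℚ) = N * ∑ j, (p i j : ℚ) := by
    intro i
    have h1 := sumκ (fun _ => 1) i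
    simp only [mul_one, Finset.sum_const, nsmul_eq_mul] at h1
    exact h1
  -- the two averaging steps
  have stepC : ∀ (f : I → ℚ) (x : G), (∑ i, (p i (γ x) : ℚ)) * ∑ c : C, f (κ (x * c)) =
      Fintype.card C * ∑ i, (p i (γ x) : ℚ) * f i := by
    intro f x
    have h1 := avg K C γ γr γs (fun y => f (κ y)) (fun l hl y => by rw [κl l hl]) x
    rw [cardγ, sumγ] at h1
    have h2 : (N : ℚ) * ((∑ i, (p i (γ x) : ℚ)) * ∑ c : C, f (κ (x * c))) =
        N * (Fintype.card C * ∑ i, (p i (γ x) : ℚ) * f i) := by linear_combination h1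
    exact mul_left_cancel₀ hN' h2
  have stepK : ∀ (f : J → ℚ) (x : G), (∑ j, (p (κ x) j : ℚ)) * ∑ k : K, f (γ (x * k)) =
      Fintype.card K * ∑ j, (p (κ x) j : ℚ) * f j := by
    intro f x
    have h1 := avg K K κ κr κs (fun y => f (γ y)) (fun l hl y => by rw [γl l hl]) x
    rw [cardκ, sumκ] at h1
    have h2 : (N : ℚ) * ((∑ j, (p (κ x) j : ℚ)) * ∑ k : K, f (γ (x * k))) =
        N * (Fintype.card K * ∑ j, (p (κ x) j : ℚ) * f j) := by linear_combination h1
    exact mul_left_cancel₀ hN' h2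
  have nzγ : ∀ j, (∑ i, (p i j : ℚ)) ≠ 0 := by
    intro j h
    obtain ⟨x, hx⟩ := γsurj j
    have h1 := cardγ j
    rw [h, mul_zero, Nat.cast_eq_zero, Finset.card_eq_zero] at h1
    have h2 : x ∈ Finset.univ.filter fun y => γ y = j := Finset.mem_filter.2 ⟨Finset.mem_univ _, hx⟩
    rw [h1] at h2
    exact Finset.notMem_empty _ h2
  have nzκ : ∀ i, (∑ j, (p i j : ℚ)) ≠ 0 := by
    intro i h
    obtain ⟨x, hx⟩ := κsurj i
    have h1 := cardκ i
    rw [h, mul_zero, Nat.cast_eq_zero, Finset.card_eq_zero] at h1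
    have h2 : x ∈ Finset.univ.filter fun y => κ y = i := Finset.mem_filter.2 ⟨Finset.mem_univ _, hx⟩
    rw [h1] at h2
    exact Finset.notMem_empty _ h2
  have hcard2 : ∀ x, (∑ k : K, ∑ c : C, a (κ (x * k * c))) = t * Fintype.card K * Fintype.card C * a (κ x) := by
    intro x
    have h1 : ∀ y, ∑ c : C, a (κ (y * c)) = Fintype.card C * s (γ y) := by
      intro y
      have h2 := stepC a y
      rw [← hs] at h2
      exact mul_left_cancel₀ (nzγ (γ y)) (by linear_combination h2)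
    have h5 : ∑ k : K, ∑ c : C, a (κ (x * k * c)) = ∑ k : K, (Fintype.card C : ℚ) * s (γ (x * k)) :=
      Finset.sum_congr rfl fun k _ => h1 (x * k)
    rw [h5, ← Finset.mul_sum]
    have h3 := stepK s x
    rw [← ht] at h3
    have h4 : ∑ k : K, s (γ (x * k)) = Fintype.card K * (t * a (κ x)) :=
      mul_left_cancel₀ (nzκ (κ x)) (by linear_combination h3)
    rw [h4]
    ring
  refine ⟨hcard2, ?_, ?_⟩
  · intro φ hl hr hT
    choose r hr' using κsurj
    choose r' hr'' using γsurj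
    let a' : I → ℚ := fun i => φ (r i)
    have haφ : ∀ x, φ x = a' (κ x) := by
      intro x
      obtain ⟨h, hh, k, hk, e⟩ := κs x (r (κ x)) (hr' _).symm
      show _ = φ (r (κ x))
      rw [e, hr _ k hk, hl h hh]
    let s' : J → ℚ := fun j => (Fintype.card C : ℚ)⁻¹ * ∑ c : C, a' (κ (r' j * c))
    have hs' : ∀ j, (∑ i, (p i j : ℚ)) * s' j = ∑ i, (p i j : ℚ) * a' i := by
      intro j
      have h1 := stepC a' (r' j)
      rw [hr''] at h1
      show (∑ i, (p i j : ℚ)) * ((Fintype.card C : ℚ)⁻¹ * ∑ c : C, a' (κ (r' j * c))) = _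
      field_simp
      linear_combination h1
    have hsC : ∀ y, ∑ c : C, a' (κ (y * c)) = Fintype.card C * s' (γ y) := by
      intro y
      have h2 := stepC a' y
      rw [← hs'] at h2
      exact mul_left_cancel₀ (nzγ (γ y)) (by linear_combination h2)
    have ht' : ∀ i, (∑ j, (p i j : ℚ)) * (t * a' i) = ∑ j, (p i j : ℚ) * s' j := by
      intro i
      have h1 := hT (r i)
      have h2 : ∑ k : K, ∑ c : C, φ (r i * k * c) = ∑ k : K, ∑ c : C, a' (κ (r i * k * c)) :=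
        Finset.sum_congr rfl fun k _ => Finset.sum_congr rfl fun c _ => haφ _
      have h5 : ∑ k : K, ∑ c : C, a' (κ (r i * k * c)) = ∑ k : K, (Fintype.card C : ℚ) * s' (γ (r i * k)) :=
        Finset.sum_congr rfl fun k _ => hsC (r i * k)
      rw [h2, h5, ← Finset.mul_sum, haφ, hr'] at h1
      have h3 := stepK s' (r i)
      rw [hr'] at h3
      have h4 : (Fintype.card K * Fintype.card C : ℚ) * ((∑ j, (p i j : ℚ)) * (t * a' i)) =
          (Fintype.card K * Fintype.card C : ℚ) * ∑ j, (p i j : ℚ) * s' j := by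
        linear_combination (-(∑ j, (p i j : ℚ))) * h1 + (Fintype.card C : ℚ) * h3
      exact mul_left_cancel₀ (mul_ne_zero hK0 hC0) h4
    intro x
    rw [haφ, huniq a' s' hs' ht', ← haφ]
  · intro i
    rw [← cardκ i, Nat.card_eq_fintype_card, Fintype.card_subtype]

/-- **An irreducible degree from a collapsed incidence matrix.** -/
theorem degree_of_collapse (κ : G → I) (γ : G → J)
    (κl : ∀ h ∈ K, ∀ x, κ (h * x) = κ x) (κr : ∀ x, ∀ k ∈ K, κ (x * k) = κ x)
    (κs : ∀ x y, κ x = κ y → ∃ h ∈ K, ∃ k ∈ K, y = h * x * k)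
    (γl : ∀ h ∈ K, ∀ x, γ (h * x) = γ x) (γr : ∀ x, ∀ c ∈ C, γ (x * c) = γ x)
    (γs : ∀ x y, γ x = γ y → ∃ h ∈ K, ∃ c ∈ C, y = h * x * c)
    (p : I → J → ℕ) (N : ℕ) (hN : N ≠ 0) (hp : ∀ i j, Nat.card {x : G // κ x = i ∧ γ x = j} = N * p i j)
    (hi : ∀ i, ∃ j, p i j ≠ 0) (hj : ∀ j, ∃ i, p i j ≠ 0)
    (a : I → ℚ) (s : J → ℚ) (t : ℚ)
    (hs : ∀ j, (∑ i, (p i j : ℚ)) * s j = ∑ i, (p i j : ℚ) * a i)
    (ht : ∀ i, (∑ j, (p i j : ℚ)) * (t * a i) = ∑ j, (p i j : ℚ) * s j)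
    (huniq : ∀ (a' : I → ℚ) (s' : J → ℚ), (∀ j, (∑ i, (p i j : ℚ)) * s' j = ∑ i, (p i j : ℚ) * a' i) →
      (∀ i, (∑ j, (p i j : ℚ)) * (t * a' i) = ∑ j, (p i j : ℚ) * s' j) → ∀ i, a' i = a' (κ 1) * a i)
    (ha1 : a (κ 1) = 1) (hinj : Function.Injective fun i => ∑ j, p i j) :
    ∃ (χ : IrrCharacter G) (d : ℕ),
      (charDegree (χ : G → ℂ) : ℚ) * ∑ i, (∑ j, (p i j : ℚ)) * a i ^ 2 = d * ∑ i, ∑ j, (p i j : ℚ) := by
  classical
  have := Fintype.ofFinite G
  have := Fintype.ofFinite K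
  have := Fintype.ofFinite C
  obtain ⟨heig, huq, hck⟩ := collapse_aux K C κ γ κl κr κs γl γr γs p N hN hp hi hj a s t hs ht huniq
  have hN' : (N : ℚ) ≠ 0 := Nat.cast_ne_zero.2 hN
  -- self-paired double cosets
  have hpair : ∀ x, κ x⁻¹ = κ x := by
    intro x
    apply hinj
    have h1 : Nat.card {y : G // κ y = κ x⁻¹} = Nat.card {y : G // κ y = κ x} := by
      refine Nat.card_congr ((Equiv.inv G).subtypeEquiv fun y => ?_)
      constructor
      · intro h
        obtain ⟨l, hl, k, hk, e⟩ := κs _ _ h.symm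
        show κ y⁻¹ = κ x
        rw [e, mul_inv_rev, mul_inv_rev, inv_inv, κl _ (K.inv_mem hk), κr _ _ (K.inv_mem hl)]
      · intro h
        have h' : κ y⁻¹ = κ x := h
        obtain ⟨l, hl, k, hk, e⟩ := κs _ _ h'.symm
        rw [← inv_inv y, e, mul_inv_rev, mul_inv_rev, κl _ (K.inv_mem hk), κr _ _ (K.inv_mem hl)]
    have h2 := hck (κ x⁻¹)
    rw [h1, hck (κ x)] at h2
    have h3 := mul_left_cancel₀ hN' h2
    show ∑ j, p (κ x⁻¹) j = ∑ j, p (κ x) j
    exact_mod_cast h3.symm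
  let T : ℚ := t * Fintype.card K * Fintype.card C
  let E : Submodule ℂ (G → ℂ) :=
    { carrier := {φ | (∀ x, ∀ k ∈ K, φ (x * k) = φ x) ∧
        ∀ x, ∑ k : K, ∑ c : C, φ (x * k * c) = (T : ℂ) * φ x}
      add_mem' := by
        rintro φ ψ ⟨h1, h2⟩ ⟨h3, h4⟩
        refine ⟨fun x k hk => by rw [Pi.add_apply, Pi.add_apply, h1 x k hk, h3 x k hk], fun x => ?_⟩
        simp only [Pi.add_apply, Finset.sum_add_distrib, h2, h4]
        ring
      zero_mem' := ⟨fun _ _ _ => rfl, fun x => by simp⟩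
      smul_mem' := by
        rintro c φ ⟨h1, h2⟩
        refine ⟨fun x k hk => by rw [Pi.smul_apply, Pi.smul_apply, h1 x k hk], fun x => ?_⟩
        simp only [Pi.smul_apply, smul_eq_mul, ← Finset.mul_sum, h2]
        ring }
  have ghEt : ∀ f ∈ E, ∀ g : G, (fun x => f (g * x)) ∈ E := by
    rintro f ⟨h1, h2⟩ g
    refine ⟨fun x k hk => ?_, fun x => ?_⟩
    · show f (g * (x * k)) = f (g * x)
      rw [← mul_assoc, h1 _ k hk]
    · have h3 := h2 (g * x)
      simp only [mul_assoc] at h3 ⊢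
      exact h3
  have ghEr : ∀ f ∈ E, ∀ x, ∀ k ∈ K, f (x * k) = f x := by
    rintro f ⟨h1, -⟩ x k hk
    exact h1 x k hk
  have ghφ : (fun x => ((a (κ x) : ℚ) : ℂ)) ∈ E := by
    refine ⟨fun x k hk => ?_, fun x => ?_⟩
    · show ((a (κ (x * k)) : ℚ) : ℂ) = ((a (κ x) : ℚ) : ℂ)
      rw [κr x k hk]
    · show ∑ k : K, ∑ c : C, ((a (κ (x * k * c)) : ℚ) : ℂ) = (T : ℂ) * ((a (κ x) : ℚ) : ℂ)
      rw [← Rat.cast_mul, ← heig x]
      push_cast
      rfl
  have gh1 : ((a (κ 1) : ℚ) : ℂ) = 1 := by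
    show ((a (κ 1) : ℚ) : ℂ) = 1
    rw [ha1, Rat.cast_one]
  have ghu : ∀ f ∈ E, (∀ k ∈ K, ∀ x, f (k * x) = f x) → ∀ x, f x = f 1 * ((a (κ x) : ℚ) : ℂ) := by
    rintro f ⟨h1, h2⟩ hl x
    show f x = f 1 * ((a (κ x) : ℚ) : ℂ)
    rw [← sub_eq_zero, ← Module.forall_dual_apply_eq_zero_iff ℚ]
    intro l
    have h3 : ∀ (q : ℚ) (z : ℂ), l ((q : ℂ) * z) = q * l z := by
      intro q z
      have h4 : (q : ℂ) * z = q • z := by rw [Rat.smul_def]
      rw [h4, map_smul, smul_eq_mul]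
    have h5 := huq (fun y => l (f y)) (fun h hh y => by rw [hl h hh]) (fun y k hk => by rw [h1 y k hk]) (fun y => by
      have h6 := congrArg l (h2 y)
      rw [h3, map_sum] at h6
      rw [← h6]
      refine Finset.sum_congr rfl fun k _ => ?_
      rw [map_sum]) x
    rw [map_sub, mul_comm, h3, sub_eq_zero]
    have h7 : l (f x) = l (f 1) * a (κ x) := h5
    rw [h7, mul_comm]
  have ghφl : ∀ k ∈ K, ∀ x, ((a (κ (k * x)) : ℚ) : ℂ) = ((a (κ x) : ℚ) : ℂ) := by
    intro k hk x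
    show ((a (κ (k * x)) : ℚ) : ℂ) = ((a (κ x) : ℚ) : ℂ)
    rw [κl k hk]
  obtain ⟨χ, d, hχ⟩ := degree_of_sph K E ghEt ghEr (fun x => ((a (κ x) : ℚ) : ℂ)) ghφ gh1 ghu ghφl
  refine ⟨χ, d, ?_⟩
  have h1 : ∑ g : G, ((a (κ g) : ℚ) : ℂ) * ((a (κ g⁻¹) : ℚ) : ℂ) =
      (((N : ℚ) * ∑ i, (∑ j, (p i j : ℚ)) * a i ^ 2 : ℚ) : ℂ) := by
    have h2 : ∑ g : G, ((a (κ g) : ℚ) : ℂ) * ((a (κ g⁻¹) : ℚ) : ℂ) = ((∑ g : G, a (κ g) ^ 2 : ℚ) : ℂ) := by
      push_cast
      refine Finset.sum_congr rfl fun g _ => ?_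
      rw [hpair, sq]
    rw [h2]
    congr 1
    rw [← Finset.sum_fiberwise (s := Finset.univ) (g := κ), Finset.mul_sum]
    refine Finset.sum_congr rfl fun i _ => ?_
    have h3 : ∀ x ∈ Finset.univ.filter (fun x => κ x = i), a (κ x) ^ 2 = a i ^ 2 := by
      intro x hx
      rw [(Finset.mem_filter.1 hx).2]
    rw [Finset.sum_congr rfl h3, Finset.sum_const, nsmul_eq_mul, ← mul_assoc, ← hck i,
      Nat.card_eq_fintype_card, Fintype.card_subtype]
  have h4 : (Nat.card G : ℂ) = (((N : ℚ) * ∑ i, ∑ j, (p i j : ℚ) : ℚ) : ℂ) := by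
    have h5 : (Nat.card G : ℚ) = (N : ℚ) * ∑ i, ∑ j, (p i j : ℚ) := by
      rw [Finset.mul_sum, ← Finset.sum_congr rfl fun i _ => hck i, Nat.card_eq_fintype_card, ← Finset.card_univ,
        Finset.card_eq_sum_card_fiberwise (f := κ) (t := Finset.univ) (fun _ _ => Finset.mem_univ _)]
      push_cast
      refine Finset.sum_congr rfl fun i _ => ?_
      rw [Nat.card_eq_fintype_card, Fintype.card_subtype]
    rw [← h5]
    push_cast
    rfl
  rw [h1, h4] at hχ
  have h6 : (charDegree (χ : G → ℂ) : ℚ) * ((N : ℚ) * ∑ i, (∑ j, (p i j : ℚ)) * a i ^ 2) =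
      d * ((N : ℚ) * ∑ i, ∑ j, (p i j : ℚ)) := by
    have h7 : (((charDegree (χ : G → ℂ) : ℚ) * ((N : ℚ) * ∑ i, (∑ j, (p i j : ℚ)) * a i ^ 2) : ℚ) : ℂ) =
        ((d * ((N : ℚ) * ∑ i, ∑ j, (p i j : ℚ)) : ℚ) : ℂ) := by
      rw [Rat.cast_mul, Rat.cast_mul (d : ℚ), Rat.cast_natCast, Rat.cast_natCast]
      exact hχ
    exact Rat.cast_injective h7
  apply mul_left_cancel₀ hN'
  linear_combination h6

end Main

end Cfsg.Agent.H652.Four.SphDeg
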